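import Cfsg.Agent.Dg.T4

/-! The two exceptional degrees over the field of two elements (slice T4 of `S4984`). -/

set_option autoImplicit false

namespace Cfsg.Agent.Dg

open Cfsg Cfsg.Agent.H3 Cfsg.Agent.H4 Module Finset
open scoped Matrix

abbrev M4 : Type := (Bool × Bool) × (Bool × Bool)

def q4 (m : M4) : Bool := (m.1.1 && m.1.2) ^^ (m.2.1 || m.2.2)

def b4 (m n : M4) : Bool := (m.1.1 && n.1.2) ^^ (m.1.2 && n.1.1) ^^ (m.2.1 && n.2.2) ^^ (m.2.2 && n.2.1)

abbrev M6 : Type := (Bool × Bool) × (Bool × Bool) × (Bool × Bool)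

def q6 (m : M6) : Bool := (m.1.1 && m.1.2) ^^ (m.2.1.1 && m.2.1.2) ^^ (m.2.2.1 && m.2.2.2)

def b6 (m n : M6) : Bool := (m.1.1 && n.1.2) ^^ (m.1.2 && n.1.1) ^^ (m.2.1.1 && n.2.1.2) ^^ (m.2.1.2 && n.2.1.1)
  ^^ (m.2.2.1 && n.2.2.2) ^^ (m.2.2.2 && n.2.2.1)

def L4 : List M4 :=
  [((false,false),(false,false)), ((false,false),(false,true)), ((false,false),(true,false)),
   ((false,false),(true,true)), ((false,true),(false,false)), ((false,true),(false,true)),
   ((false,true),(true,false)), ((false,true),(true,true)), ((true,false),(false,false)),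
   ((true,false),(false,true)), ((true,false),(true,false)), ((true,false),(true,true)),
   ((true,true),(false,false)), ((true,true),(false,true)), ((true,true),(true,false)),
   ((true,true),(true,true))]

def S4 : List M4 :=
  [((false,false),(false,true)), ((false,false),(true,false)), ((false,false),(true,true)),
   ((false,true),(false,true)), ((false,true),(true,false)), ((false,true),(true,true)),
   ((true,false),(false,true)), ((true,false),(true,false)), ((true,false),(true,true)),
   ((true,true),(false,false))]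

def L6 : List M6 :=
  [((false,false),(false,false),(false,false)), ((false,false),(false,false),(false,true)),
   ((false,false),(false,false),(true,false)), ((false,false),(false,false),(true,true)),
   ((false,false),(false,true),(false,false)), ((false,false),(false,true),(false,true)),
   ((false,false),(false,true),(true,false)), ((false,false),(false,true),(true,true)),
   ((false,false),(true,false),(false,false)), ((false,false),(true,false),(false,true)),
   ((false,false),(true,false),(true,false)), ((false,false),(true,false),(true,true)),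
   ((false,false),(true,true),(false,false)), ((false,false),(true,true),(false,true)),
   ((false,false),(true,true),(true,false)), ((false,false),(true,true),(true,true)),
   ((false,true),(false,false),(false,false)), ((false,true),(false,false),(false,true)),
   ((false,true),(false,false),(true,false)), ((false,true),(false,false),(true,true)),
   ((false,true),(false,true),(false,false)), ((false,true),(false,true),(false,true)),
   ((false,true),(false,true),(true,false)), ((false,true),(false,true),(true,true)),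
   ((false,true),(true,false),(false,false)), ((false,true),(true,false),(false,true)),
   ((false,true),(true,false),(true,false)), ((false,true),(true,false),(true,true)),
   ((false,true),(true,true),(false,false)), ((false,true),(true,true),(false,true)),
   ((false,true),(true,true),(true,false)), ((false,true),(true,true),(true,true)),
   ((true,false),(false,false),(false,false)), ((true,false),(false,false),(false,true)),
   ((true,false),(false,false),(true,false)), ((true,false),(false,false),(true,true)),
   ((true,false),(false,true),(false,false)), ((true,false),(false,true),(false,true)),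
   ((true,false),(false,true),(true,false)), ((true,false),(false,true),(true,true)),
   ((true,false),(true,false),(false,false)), ((true,false),(true,false),(false,true)),
   ((true,false),(true,false),(true,false)), ((true,false),(true,false),(true,true)),
   ((true,false),(true,true),(false,false)), ((true,false),(true,true),(false,true)),
   ((true,false),(true,true),(true,false)), ((true,false),(true,true),(true,true)),
   ((true,true),(false,false),(false,false)), ((true,true),(false,false),(false,true)),
   ((true,true),(false,false),(true,false)), ((true,true),(false,false),(true,true)),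
   ((true,true),(false,true),(false,false)), ((true,true),(false,true),(false,true)),
   ((true,true),(false,true),(true,false)), ((true,true),(false,true),(true,true)),
   ((true,true),(true,false),(false,false)), ((true,true),(true,false),(false,true)),
   ((true,true),(true,false),(true,false)), ((true,true),(true,false),(true,true)),
   ((true,true),(true,true),(false,false)), ((true,true),(true,true),(false,true)),
   ((true,true),(true,true),(true,false)), ((true,true),(true,true),(true,true))]

def S6 : List M6 :=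
  [((false,false),(false,false),(false,false)), ((false,false),(false,false),(false,true)),
   ((false,false),(false,false),(true,false)), ((false,false),(false,true),(false,false)),
   ((false,false),(false,true),(false,true)), ((false,false),(false,true),(true,false)),
   ((false,false),(true,false),(false,false)), ((false,false),(true,false),(false,true)),
   ((false,false),(true,false),(true,false)), ((false,false),(true,true),(true,true)),
   ((false,true),(false,false),(false,false)), ((false,true),(false,false),(false,true)),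
   ((false,true),(false,false),(true,false)), ((false,true),(false,true),(false,false)),
   ((false,true),(false,true),(false,true)), ((false,true),(false,true),(true,false)),
   ((false,true),(true,false),(false,false)), ((false,true),(true,false),(false,true)),
   ((false,true),(true,false),(true,false)), ((false,true),(true,true),(true,true)),
   ((true,false),(false,false),(false,false)), ((true,false),(false,false),(false,true)),
   ((true,false),(false,false),(true,false)), ((true,false),(false,true),(false,false)),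
   ((true,false),(false,true),(false,true)), ((true,false),(false,true),(true,false)),
   ((true,false),(true,false),(false,false)), ((true,false),(true,false),(false,true)),
   ((true,false),(true,false),(true,false)), ((true,false),(true,true),(true,true)),
   ((true,true),(false,false),(true,true)), ((true,true),(false,true),(true,true)),
   ((true,true),(true,false),(true,true)), ((true,true),(true,true),(false,false)),
   ((true,true),(true,true),(false,true)), ((true,true),(true,true),(true,false))]

theorem tot4 : tot L4 S4 ((false, false), (false, false)) q4 b4 1 5 = 840 := by decide +kernel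

set_option synthInstance.maxSize 2000 in
theorem mid4 : ∀ l m n, q4 l = true → q4 m = true → q4 n = true → (l = m ↔ l = n) → b4 l m = b4 l n →
    m = n ∨ b4 m n = true ∨ ∃ r, q4 r = true ∧ b4 l m = b4 l r ∧ b4 m r = true ∧ b4 r n = true := by
  decide +kernel

theorem tot6 : tot L6 S6 ((false, false), (false, false), (false, false)) q6 b6 2 24 = -5376 := by
  decide +kernel

variable {F V : Type} [Field F] [Finite F] [AddCommGroup V] [Module F V] [Finite V]
  {Q : V → F} {B : LinearMap.BilinForm F V} (h2 : Nat.card F = 2)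
include h2

theorem model6 (T : Ty true 0 3 Q B) :
    ∃ ψ : M6 → V, Mod Q B ψ q6 b6 ∧ ψ ((false, false), (false, false), (false, false)) = 0 := by
  have hc := T.card_eq
  obtain ⟨V₀, _, _, _, Q₀, B₀, h, -, -, e, e1, e2⟩ := T
  refine ⟨fun m => e.symm (![bf F m.1.1, bf F m.2.1.1, bf F m.2.2.1], 0, ![bf F m.1.2, bf F m.2.1.2, bf F m.2.2.2]),
    Mod.of (by rw [hc, h2]; simp) (fun m => ?_) (fun m n => ?_) (by decide +kernel), ?_⟩
  · rw [← e1]; simp [hQ, dl, q6, bf_xor h2, bf_and, h.zero, add_assoc]
  · rw [← e2]; simp [ep, b6, bf_xor h2, bf_and]; ring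
  · rw [LinearEquiv.map_eq_zero_iff]; ext i <;> first | rfl | (fin_cases i <;> rfl)

theorem t4b (T : Ty true 0 5 Q B) : CD True Q B 221340 := by
  obtain ⟨V', _, _, _, Q', B', T', e⟩ := Ty.split (m := 3) (k := 2) T
  obtain ⟨ψ, H, hz⟩ := model6 h2 T'
  have h := T'.pol
  obtain ⟨τ, t1, t2, -, t4, t5⟩ := tau_f' T' (by decide) (by decide) (μ := 9) (by rw [h2]; rfl)
  rw [h2, show ff 2 (ee true 0) 3 = 14 from rfl] at t2
  obtain ⟨D, hD, hD'⟩ := t4two h2 h H hz (L := L6) (S := S6) (by decide +kernel) (by decide +kernel) (ε := false)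
    (by decide +kernel) t1 (Or.inr t4) (β := 2) (γ := 24) (δ := 6) (by norm_num) (fun g => by
      have a1 := relCnt_vec h g
      have a2 := fix_vec h g
      have a3 := t5 g
      have a4 : ∀ v, (∃ c : F, g.1 v = c • v) ↔ g.1 v = v := fun v => ⟨fun ⟨c, hc⟩ => by
        obtain ⟨_ | _, rfl⟩ := exists_bf h2 c
        · simp at hc; simp [hc]
        · simpa using hc, fun h => ⟨1, by simpa using h⟩⟩
      simp only [h2, a4, ee, if_true] at a1 a2 a3
      rw [bf_false, ← a1, ← a2]
      push_cast at a3 ⊢
      linear_combination a3) (μ₁ := -128) (μ₂ := 64) (by norm_num) (by rw [T'.card_eq, h2]; norm_num)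
    (by rw [tot6, t2]; norm_num)
  have hΨ := Psi_one (τ := τ) T' (cusp_sgn h2)
  rw [h2, t2, show ∏ i ∈ Ioc 3 (3 + 2), NN 2 (ee true 0) i = 71145 from by decide] at hΨ
  obtain rfl : D = 221340 := Nat.cast_injective (R := ℂ) (by
    push_cast at hΨ ⊢; linear_combination -hD' / 192 + 2 / 9 * hΨ)
  exact e.cd hD

theorem model4 (T : Ty true 2 1 Q B) :
    ∃ ψ : M4 → V, Mod Q B ψ q4 b4 ∧ ψ ((false, false), (false, false)) = 0 := by
  have hc := T.card_eq
  obtain ⟨V₀, _, _, _, Q₀, B₀, h, hd, h0, e, e1, e2⟩ := T
  have := Module.finite_of_finite F (M := V₀)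
  have : Nontrivial V₀ := Module.nontrivial_of_finrank_pos (R := F) (by omega)
  obtain ⟨x, hx⟩ := exists_ne (0 : V₀)
  obtain ⟨y, hy⟩ := h.dsep0 hx
  have q1 : ∀ v ≠ 0, Q₀ v = 1 := fun v hv => by
    obtain ⟨_ | _, e⟩ := exists_bf h2 (Q₀ v)
    · exact absurd (h0 v e) hv
    · exact e
  have qx := q1 x hx
  have qy := q1 y (by rintro rfl; simp at hy)
  have a2 := two_zero h2
  have a3 : (2 : F) = 0 := one_add_one_eq_two.symm.trans a2
  refine ⟨fun m => e.symm (![bf F m.1.1], bf F m.2.1 • x + bf F m.2.2 • y, ![bf F m.1.2]),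
    Mod.of (by rw [hc, h2]; simp) (fun m => ?_) (fun m n => ?_) (by decide +kernel), ?_⟩
  · rw [← e1]
    obtain ⟨⟨a, b⟩, _ | _, _ | _⟩ := m <;>
      simp [hQ, dl, q4, bf_xor h2, bf_and, h.zero, qx, qy, h.oadd, hy, a2, -Bool.bne_true, -Bool.xor_true]
  · rw [← e2]; simp [ep, b4, bf_xor h2, bf_and, h.self, a3, hy, h.osym y x]; ring
  · rw [LinearEquiv.map_eq_zero_iff]; ext i <;> simp

/-- the nonsingular vectors -/
def Ns (Q : V → F) : Type := {v // Q v = 1}

instance nsAction (Q : V → F) (B : LinearMap.BilinForm F V) : MulAction (Iso Q B) (Ns Q) where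
  smul g x := ⟨g.1 x.1, (Iso.q g _).trans x.2⟩
  one_smul _ := rfl
  mul_smul _ _ _ := rfl

omit h2 [Finite F] [Finite V] [AddCommGroup V] [Module F V] in
theorem card_ns (P : V → Prop) : Nat.card {x : Ns Q // P x.1} = Nat.card {v // Q v = 1 ∧ P v} :=
  Nat.card_congr (Equiv.subtypeSubtypeEquivSubtypeInter _ P)

theorem tau_five (T : Ty true 2 1 Q B) : ∃ τ : Iso Q B → ℂ, IsIrrCharacter _ τ ∧ τ 1 = 5 ∧
    ∀ g, τ g * 3 = Nat.card {v // Q v = 1 ∧ B v (g.1 v) = 0} + Nat.card {v // Q v = 1 ∧ g.1 v = v} - 5 := by
  obtain ⟨ψ, H, -⟩ := model4 h2 T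
  have h := T.pol
  have : Finite (Ns Q) := Subtype.finite
  have a3 : (2 : F) = 0 := one_add_one_eq_two.symm.trans (two_zero h2)
  have ex : ∀ x : Ns Q, ∃ m, q4 m = true ∧ ψ m = x.1 := fun x => by
    obtain ⟨m, hm⟩ := H.bij.2 x.1
    exact ⟨m, bf_eq_one.1 (by rw [← H.hq, hm, x.2]), hm⟩
  have c2 : ∀ m n, Nat.card {z : Ns Q // B (ψ m) z.1 = 0 ∧ B (ψ n) z.1 = 0} =
      ∑ l, bif q4 l && (!b4 m l && !b4 n l) then 1 else 0 := fun m n => by
    rw [card_ns fun v => B (ψ m) v = 0 ∧ B (ψ n) v = 0]
    exact card_model H.bij _ _ fun l => by simp [H.hq, H.hb, bf_eq_one, bf_eq_zero]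
  have c0 : Nat.card (Ns Q) = 10 :=
    (card_model H.bij _ q4 fun l => by rw [H.hq, bf_eq_one]).trans (by decide +kernel)
  have S : Srg (Iso Q B) (fun x y : Ns Q => B x.1 y.1 = 0) 4 1 2 1 := by
    refine ⟨fun x => by rw [h.self, a3, zero_mul], fun x y e => (h.osym _ _).trans e,
      fun g x y => (Iso.b g x.1 y.1).congr_left, fun x => ?_, fun x y hxy e => ?_, fun x y e => ?_, rfl,
      by rw [c0]; norm_num, by decide, (Nat.card_pos_iff.1 (by omega)).1⟩
    · obtain ⟨m, q, e⟩ := ex x
      have := c2 m m
      simp only [and_self] at this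
      rw [← e, this]
      revert m
      exact fun m q _ _ => (by decide +kernel : ∀ m, q4 m = true →
        (∑ l, bif q4 l && (!b4 m l && !b4 m l) then 1 else 0) = 4) m q
    · obtain ⟨m, q, e1⟩ := ex x
      obtain ⟨n, q', e2⟩ := ex y
      rw [← e1, ← e2, H.hb, bf_eq_zero] at e
      rw [← e1, ← e2, c2]
      exact (by decide +kernel : ∀ m n, q4 m = true → q4 n = true → m ≠ n → b4 m n = false →
        (∑ l, bif q4 l && (!b4 m l && !b4 n l) then 1 else 0) + 1 = 2 + 1) m n q q'
        (fun h => hxy (Subtype.ext (by rw [← e1, ← e2, h]))) e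
    · obtain ⟨m, q, e1⟩ := ex x
      obtain ⟨n, q', e2⟩ := ex y
      rw [← e1, ← e2, H.hb, bf_eq_zero] at e
      rw [← e1, ← e2, c2]
      exact (by decide +kernel : ∀ m n, q4 m = true → q4 n = true → ¬ b4 m n = false →
        (∑ l, bif q4 l && (!b4 m l && !b4 n l) then 1 else 0) = 1) m n q q' e
  have st : ∀ x y y' : V, Q y = 1 → Q y' = 1 → B x y = B x y' → B y y' = 1 →
      ∃ g : Iso Q B, g.1 x = x ∧ g.1 y = y' := fun x y y' q q' e e' =>
    ⟨h.rf (y - y'), h.rf_fix (by rw [h.osym, map_sub, e, sub_self]),
      h.rf_swap (q.trans q'.symm) (by rw [h.osub, q, q', e']; simp)⟩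
  have R : Rk3 (Iso Q B) fun x y : Ns Q => B x.1 y.1 = 0 := fun x y x' y' e1 e2 => by
    obtain ⟨g, hg⟩ := h.exists_conj (x.2.trans x'.2.symm) (by rw [x.2]; exact one_ne_zero)
    have hg' : g • x = x' := Subtype.ext hg
    rw [← MulAction.injective g |>.eq_iff, hg'] at e1
    replace e2 := (S.inv g x y).trans e2
    rw [hg'] at e2
    suffices ∃ k : Iso Q B, k.1 x'.1 = x'.1 ∧ k.1 (g • y).1 = y'.1 by
      obtain ⟨k, k1, k2⟩ := this
      exact ⟨k * g, by rw [mul_smul, hg']; exact Subtype.ext k1, by rw [mul_smul]; exact Subtype.ext k2⟩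
    obtain ⟨l, q0, a0⟩ := ex x'
    obtain ⟨m, q1, a1⟩ := ex (g • y)
    obtain ⟨n, q2, a2⟩ := ex y'
    replace e1 : x'.1 = (g • y).1 ↔ x'.1 = y'.1 := Subtype.ext_iff.symm.trans (e1.trans Subtype.ext_iff)
    simp only [← a0, ← a1, ← a2, H.hb, bf_eq_zero, H.bij.1.eq_iff] at e1 e2 ⊢
    replace e2 : b4 l m = b4 l n := by revert e2; cases b4 l m <;> cases b4 l n <;> simp
    obtain rfl | e | ⟨r, r0, r1, r2, r3⟩ := mid4 l m n q0 q1 q2 e1 e2
    · exact ⟨1, rfl, rfl⟩
    · exact st _ _ _ (by rw [H.hq, q1]; rfl) (by rw [H.hq, q2]; rfl)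
        (by rw [H.hb, H.hb, e2]) (by rw [H.hb, e]; rfl)
    · obtain ⟨k, k1, k2⟩ := st (ψ l) (ψ m) (ψ r) (by rw [H.hq, q1]; rfl) (by rw [H.hq, r0]; rfl)
        (by rw [H.hb, H.hb, r1]) (by rw [H.hb, r2]; rfl)
      obtain ⟨k', k1', k2'⟩ := st (ψ l) (ψ r) (ψ n) (by rw [H.hq, r0]; rfl) (by rw [H.hq, q2]; rfl)
        (by rw [H.hb, H.hb, ← r1, e2]) (by rw [H.hb, r3]; rfl)
      exact ⟨k' * k, by rw [Iso.mul_apply, k1, k1'], by rw [Iso.mul_apply, k2, k2']⟩
  obtain ⟨χ, χ', f, g, -, -, c1, -, -, c3, c4, c5, c6, -⟩ := S.main R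
  obtain rfl : f = 5 := by omega
  refine ⟨χ, c6 (by decide) (Or.inr (by omega)), c1, fun g => ?_⟩
  have := c3 g
  have b1 : relCnt (fun x y : Ns Q => B x.1 y.1 = 0) g = _ := card_ns fun v => B v (g.1 v) = 0
  have b2 : Nat.card (MulAction.fixedBy (Ns Q) g) = _ :=
    (Nat.card_congr (Equiv.subtypeEquivRight fun x => Subtype.ext_iff)).trans (card_ns fun v => g.1 v = v)
  rw [b1, b2] at this
  push_cast at this
  linear_combination this

theorem t4c (T : Ty true 2 3 Q B) : CD True Q B 4760 := by
  obtain ⟨V', _, _, _, Q', B', T', e⟩ := Ty.split (m := 1) (k := 2) T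
  obtain ⟨ψ, H, hz⟩ := model4 h2 T'
  obtain ⟨τ, t1, t2, t5⟩ := tau_five h2 T'
  obtain ⟨D, hD, hD'⟩ := t4two h2 T'.pol H hz (L := L4) (S := S4) (by decide +kernel) (by decide +kernel)
    (ε := true) (by decide +kernel) t1 (Or.inl (T'.nomid (by decide))) (β := 1) (γ := 5) (δ := 3) (by norm_num)
    (fun g => by rw [t5, bf_true]; push_cast; ring) (μ₁ := 64) (μ₂ := -8) (by norm_num)
    (by rw [T'.card_eq, h2]; norm_num) (by rw [tot4, t2]; norm_num)
  have hΨ := Psi_one (τ := τ) T' (cusp_sgn h2)
  rw [h2, t2, show ∏ i ∈ Ioc 1 (1 + 2), NN 2 (ee true 2) i = 3213 from by decide] at hΨ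
  obtain rfl : D = 4760 := Nat.cast_injective (R := ℂ) (by
    push_cast at hΨ ⊢; linear_combination hD' / 72 + 8 / 27 * hΨ)
  exact e.cd hD

end Cfsg.Agent.Dg
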